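import Mathlib
import Cfsg.Prelude.Def_GeometricClasses

/-!
# S5211, `StRes` (DEC) (helper302): a regular unipotent element of `GL₄` permutes no decomposition in two planes
-/

set_option autoImplicit false

namespace Cfsg.Agent.H302.GT

open Matrix
open scoped MatrixGroups

universe u

/-- a nilpotent endomorphism squares to zero on an invariant plane -/
theorem sq_on_plane {F : Type*} [Field F] {V : Type*} [AddCommGroup V] [Module F V] [FiniteDimensional F V]
    (N : Module.End F V) (hN : IsNilpotent N) (W : Submodule F V) (hW : Module.finrank F W = 2)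
    (hinv : ∀ v ∈ W, N v ∈ W) : ∀ v ∈ W, N (N v) = 0 := by
  have hn : IsNilpotent (N.restrict hinv) := by
    obtain ⟨k, hk⟩ := hN
    refine ⟨k, ?_⟩
    rw [Module.End.pow_restrict]
    ext v
    show ((N ^ k) (v : V)) = 0
    rw [hk]
    rfl
  have h1 := hn.charpoly_eq_X_pow_finrank
  have h2 := LinearMap.aeval_self_charpoly (N.restrict hinv)
  rw [h1, hW, map_pow, Polynomial.aeval_X] at h2
  intro v hv
  have h3 := congrArg (fun T : Module.End F W => ((T ⟨v, hv⟩ : W) : V)) h2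
  exact h3

/-- **(DEC)** -/
theorem dec {F : Type u} [Field F] {D : Fin 2 → Submodule F (Fin 2 ⊕ Fin 2 → F)} (hD : Cfsg.Geo.IsMDecomposition 2 D)
    {p : ℕ} (hp : p.Prime) (h2 : p ≠ 2) {x : GL (Fin 2 ⊕ Fin 2) F} (hx : x ^ p = 1)
    (h4 : ((x : Matrix (Fin 2 ⊕ Fin 2) (Fin 2 ⊕ Fin 2) F) - 1) ^ 4 = 0) (hm : x ∈ Cfsg.Geo.decompositionStabilizer D) :
    ((x : Matrix (Fin 2 ⊕ Fin 2) (Fin 2 ⊕ Fin 2) F) - 1) ^ 3 = 0 := by
  obtain ⟨σ, hσ⟩ := hm
  set X := Matrix.toLin' (x : Matrix (Fin 2 ⊕ Fin 2) (Fin 2 ⊕ Fin 2) F) with hX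
  have hXp : X ^ p = 1 := by
    rw [hX, ← Matrix.toLin'_pow, ← Units.val_pow_eq_pow_val, hx, Units.val_one, Matrix.toLin'_one]
    rfl
  -- `x` fixes both planes
  have hfix : ∀ i, (D i).map X = D i := by
    by_cases h1 : σ = 1
    · intro i
      rw [hσ, h1]
      rfl
    exfalso
    have hsw : ∀ i, σ (σ i) = i := by
      have h01 : ∀ σ : Equiv.Perm (Fin 2), ∀ i, σ (σ i) = i := by decide
      exact h01 σ
    have hne : σ 0 ≠ 0 := by
      intro h
      apply h1
      have h01 : ∀ σ : Equiv.Perm (Fin 2), σ 0 = 0 → σ = 1 := by decide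
      exact h01 σ h
    have hpow : ∀ k : ℕ, (D 0).map (X ^ (2 * k)) = D 0 := by
      intro k
      induction k with
      | zero => rw [Nat.mul_zero, pow_zero]; exact Submodule.map_id _
      | succ k ih =>
        rw [show 2 * (k + 1) = 2 + 2 * k by ring, pow_add]
        show (D 0).map ((X ^ 2).comp (X ^ (2 * k))) = D 0
        rw [Submodule.map_comp, ih, sq]
        show (D 0).map (X.comp X) = D 0
        rw [Submodule.map_comp, hσ, hσ, hsw]
    have hodd := hp.eq_two_or_odd.resolve_left h2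
    have h3 : (D 0).map (X ^ p) = D (σ 0) := by
      have e : p = 1 + 2 * (p / 2) := by omega
      rw [e, pow_add]
      show (D 0).map ((X ^ 1).comp (X ^ (2 * (p / 2)))) = D (σ 0)
      rw [Submodule.map_comp, hpow, pow_one, hσ]
    rw [hXp] at h3
    have h3' : D 0 = D (σ 0) := by
      rw [← h3]
      exact (Submodule.map_id _).symm
    have h4 : Disjoint (D 0) (D (σ 0)) := hD.indep.pairwiseDisjoint hne.symm
    rw [← h3', disjoint_self] at h4
    have h5 := hD.finrank_eq 0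
    rw [h4, finrank_bot] at h5
    omega
  -- the nilpotent endomorphism
  set N : Module.End F (Fin 2 ⊕ Fin 2 → F) := X - 1 with hN
  have hNm : N = Matrix.toLin' ((x : Matrix (Fin 2 ⊕ Fin 2) (Fin 2 ⊕ Fin 2) F) - 1) := by
    rw [hN, hX, map_sub, Matrix.toLin'_one]
    rfl
  have hNn : IsNilpotent N := ⟨4, by rw [hNm, ← Matrix.toLin'_pow, h4, map_zero]⟩
  have hinv : ∀ i, ∀ v ∈ D i, N v ∈ D i := by
    intro i v hv
    rw [hN]
    refine (D i).sub_mem ?_ hv
    have h5 : X v ∈ (D i).map X := ⟨v, hv, rfl⟩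
    rwa [hfix] at h5
  have hNN : N * N = 0 := by
    have h5 : (⊤ : Submodule F (Fin 2 ⊕ Fin 2 → F)) ≤ LinearMap.ker (N * N) := by
      rw [← hD.iSup_eq_top, iSup_le_iff]
      intro i v hv
      exact sq_on_plane N hNn (D i) (hD.finrank_eq i) (hinv i) v hv
    exact LinearMap.ker_eq_top.1 (top_le_iff.1 h5)
  have h6 : Matrix.toLin' (((x : Matrix (Fin 2 ⊕ Fin 2) (Fin 2 ⊕ Fin 2) F) - 1) ^ 3) = 0 := by
    rw [Matrix.toLin'_pow, ← hNm, pow_succ, sq, hNN, zero_mul]
  exact (LinearEquiv.map_eq_zero_iff _).1 h6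

end Cfsg.Agent.H302.GT
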