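import Cfsg.Agent.H302.GT.KbAbs
import Cfsg.Agent.H779.G2.Stmts

/-!
# S5211 (hub helper779), task 5442 (helper302): `StKB` and `StDual` from S3083
-/

set_option autoImplicit false

namespace Cfsg.Agent.H302.GT

open Cfsg Cfsg.FusionSystem Cfsg.Agent.H756.PU Subgroup Cfsg.Agent.H775.PU

universe u

variable {Ω : Type u} [Group Ω] {S E : Subgroup Ω} {p : ℕ} {Γ : Subgroup (MulAut E)}

theorem frat_comm (h : Ess S E p Γ) (a b : E ⧸ frattini E) : a * b = b * a := by
  have hfE := finE h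
  have := Fact.mk h.pp
  have hpE := pE h
  obtain ⟨a, rfl⟩ := QuotientGroup.mk_surjective a
  obtain ⟨b, rfl⟩ := QuotientGroup.mk_surjective b
  rw [← QuotientGroup.mk_mul, ← QuotientGroup.mk_mul, QuotientGroup.eq]
  have h1 := Cfsg.Agent.Lib.FrattiniPGroup.commutator_le_frattini hpE
    (Subgroup.commutator_mem_commutator (mem_top b⁻¹) (mem_top a⁻¹))
  rw [commutatorElement_def] at h1
  convert h1 using 1
  group

theorem frat_pow (h : Ess S E p Γ) (x : E ⧸ frattini E) : x ^ p = 1 := by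
  have hfE := finE h
  have := Fact.mk h.pp
  have hpE := pE h
  obtain ⟨x, rfl⟩ := QuotientGroup.mk_surjective x
  rw [← QuotientGroup.mk_pow, QuotientGroup.eq_one_iff]
  exact Cfsg.Agent.Lib.FrattiniPGroup.pow_mem_frattini hpE x

/-- the image of `H` and of `A` in `Γ / Inn(E) ≤ Aut(E / Φ(E))` -/
theorem setup (h : Ess S E p Γ) (A : Subgroup Ω) (hA : A ≤ normalizerIn S E) :
    ∃ M B : Subgroup (act Γ).range, SE p M ∧ M ≠ ⊤ ∧ B ≤ M ∧ IsPGroup p B ∧ Nat.card B = E.relIndex A ∧
      ∀ b ∈ B, ∃ a ∈ A, ∀ e e' : E, (e' : Ω) = a * e * a⁻¹ →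
        (b : MulAut (E ⧸ frattini E)) (e : E ⧸ frattini E) = (e' : E ⧸ frattini E) := by
  have hfE := finE h
  have := Fact.mk h.pp
  have := h.fin
  have hpE := pE h
  obtain ⟨H, hHΓ, hHne, hAH, hAI, hspe⟩ := h.spe
  have hR : normalizerIn S E ≤ normalizer (E : Set Ω) := inf_le_right
  let c0 : A →* MulAut E := (normalizerMonoidHom E).comp (inclusion (hA.trans hR))
  have hc0 : ∀ (r : A) (x : E), ((c0 r x : E) : Ω) = r * x * (r : Ω)⁻¹ := fun r x => rfl
  have hcI : ∀ r : A, c0 r ∈ autInducedBy S E := fun r =>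
    (H802.mem_autInducedBy_iff _ _ _).2 ⟨r, (hA r.2).1, fun x => hc0 r x⟩
  let c : A →* Γ := c0.codRestrict Γ (fun r => h.indu (hcI r))
  let π : Γ →* (act Γ).range := (act Γ).rangeRestrict
  have hπk : ∀ g : Γ, π g = 1 ↔ (g : MulAut E) ∈ Inn E := by
    intro g
    have h1 : π g = 1 ↔ g ∈ (act Γ).ker := by
      rw [MonoidHom.mem_ker]
      exact ⟨fun h => congrArg Subtype.val h, fun h => Subtype.ext h⟩
    rw [h1]
    exact ⟨ker_act_le h g, inn_le_ker h g⟩
  have hπ : Function.Surjective π := (act Γ).rangeRestrict_surjective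
  let M : Subgroup (act Γ).range := (H.subgroupOf Γ).map π
  have hmem : ∀ g : Γ, π g ∈ M → (g : MulAut E) ∈ H := by
    rintro g ⟨y, hy, hyg⟩
    have h1 : π (y⁻¹ * g) = 1 := by
      rw [map_mul, map_inv, hyg, inv_mul_cancel]
    have h2 := hAH (inn_le h ((hπk _).1 h1))
    have h3 := H.mul_mem (mem_subgroupOf.1 hy) h2
    have e : (y : MulAut E) * ((y⁻¹ * g : Γ) : MulAut E) = g := by
      push_cast
      group
    rwa [e] at h3
  have hInnp : ∀ x ∈ Inn E, ∃ k : ℕ, x ^ p ^ k = 1 := by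
    rintro _ ⟨e, rfl⟩
    obtain ⟨k, hk⟩ := hpE e
    refine ⟨k, ?_⟩
    rw [← map_pow, hk, map_one]
  have hSE : SE p M := by
    intro g hg x hx hgx hk
    obtain ⟨g, rfl⟩ := hπ g
    obtain ⟨x, rfl⟩ := hπ x
    obtain ⟨k, hk⟩ := hk
    rw [hπk]
    refine hspe g g.2 (fun h' => hg ⟨g, h', rfl⟩) x (hmem x hx) ?_ ?_
    · exact hmem (g * x * g⁻¹) (by rw [map_mul, map_mul, map_inv]; exact hgx)
    · rw [← map_pow, hπk] at hk
      obtain ⟨l, hl⟩ := hInnp _ hk
      refine ⟨k + l, ?_⟩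
      rw [pow_add, pow_mul]
      exact hl
  refine ⟨M, (π.comp c).range, hSE, ?_, ?_, ?_, ?_, ?_⟩
  · intro htop
    apply hHne
    refine le_antisymm hHΓ fun g hg => ?_
    exact hmem ⟨g, hg⟩ (by rw [htop]; exact mem_top _)
  · rintro _ ⟨a, rfl⟩
    exact ⟨c a, hAH (hcI a), rfl⟩
  · have hpA : IsPGroup p A :=
      h.pgr.of_injective (inclusion (hA.trans inf_le_left)) (inclusion_injective _)
    exact hpA.of_surjective (π.comp c).rangeRestrict (π.comp c).rangeRestrict_surjective
  · rw [← index_ker]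
    have hker : (π.comp c).ker = E.subgroupOf A := by
      ext a
      rw [MonoidHom.mem_ker, mem_subgroupOf]
      show π (c a) = 1 ↔ _
      rw [hπk]
      constructor
      · rintro ⟨e, he⟩
        have h1 : (e : Ω)⁻¹ * a ∈ E := by
          refine h.cent _ (S.mul_mem (S.inv_mem (h.E_le e.2)) (hA a.2).1) fun x hx => ?_
          have h2 := congrArg (fun t : MulAut E => ((t ⟨x, hx⟩ : E) : Ω)) he
          have h3 : (e : Ω) * x * (e : Ω)⁻¹ = a * x * (a : Ω)⁻¹ := h2
          rw [mul_assoc, inv_mul_eq_iff_eq_mul]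
          have h4 : (a : Ω) * x = (e : Ω) * x * (e : Ω)⁻¹ * a := by rw [h3]; group
          rw [h4]
          group
        have h5 := E.mul_mem e.2 h1
        rwa [mul_inv_cancel_left] at h5
      · intro ha
        refine ⟨⟨a, ha⟩, ?_⟩
        ext x
        rfl
    rw [hker]
    rfl
  · rintro _ ⟨a, rfl⟩
    refine ⟨a, a.2, fun e e' he => ?_⟩
    show act Γ (c a) (e : E ⧸ frattini E) = _
    rw [act_mk]
    congr 1
    apply Subtype.ext
    rw [he]
    exact hc0 a e

theorem kb_of (h3083 : B3083.{u}) : Cfsg.Agent.H779.G2.StKB.{u} := by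
  intro Ω _ S E p Γ h C A hA _ hCE hcom
  have hfE := finE h
  have := Fact.mk h.pp
  have := h.fin
  have hpE := pE h
  obtain ⟨M, B, hSE, hMt, hBM, hBp, hcard, hB⟩ := setup h A hA
  let cg : CommGroup (E ⧸ frattini E) :=
    { (inferInstance : Group (E ⧸ frattini E)) with mul_comm := frat_comm h }
  have key := card_le_index h3083 (frat_pow h) ((act Γ).range.subtype) (act Γ).range.subtype_injective hSE hMt hBM hBp
    ((C.subgroupOf E).map (QuotientGroup.mk' (frattini E))) (by
      intro b hb v hv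
      obtain ⟨a, ha, hab⟩ := hB b hb
      obtain ⟨c, hc, rfl⟩ := hv
      have haN : (a : Ω) ∈ normalizer (E : Set Ω) := (hA ha).2
      have h1 := hab c ⟨a * c * a⁻¹, (mem_normalizer_iff.1 haN _).1 c.2⟩ rfl
      refine h1.trans ?_
      rw [QuotientGroup.mk'_apply, QuotientGroup.eq]
      obtain ⟨f, hf, hf'⟩ := hcom a ha c hc
      have h2 : (⟨a * c * a⁻¹, (mem_normalizer_iff.1 haN _).1 c.2⟩ : E)⁻¹ * c = c⁻¹ * f⁻¹ * c := by
        apply Subtype.ext
        have hf'' : (f : Ω) = a * c * a⁻¹ * (c : Ω)⁻¹ := hf'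
        push_cast
        rw [hf'']
        group
      rw [h2]
      have hn : (frattini E).Normal := inferInstance
      have h3 := hn.conj_mem _ ((frattini E).inv_mem hf) c⁻¹
      rwa [inv_inv] at h3)
  rw [hcard] at key
  refine key.trans (le_of_eq ?_)
  rw [index_map, QuotientGroup.ker_mk', MonoidHom.range_eq_top.2 (QuotientGroup.mk'_surjective _), index_top, mul_one,
    relIndex]
  congr 1
  ext x
  constructor
  · intro hx
    have h1 : (C.subgroupOf E ⊔ frattini E) ≤ (C ⊔ (frattini E).map E.subtype).subgroupOf E := by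
      rw [sup_le_iff]
      exact ⟨fun y hy => (le_sup_left : C ≤ C ⊔ (frattini E).map E.subtype) hy,
        fun z hz => (le_sup_right : (frattini E).map E.subtype ≤ C ⊔ (frattini E).map E.subtype) ⟨z, hz, rfl⟩⟩
    exact h1 hx
  · intro hx
    have h1 : (C ⊔ (frattini E).map E.subtype) ≤ (C.subgroupOf E ⊔ frattini E).map E.subtype := by
      rw [Subgroup.map_sup, sup_le_iff]
      refine ⟨le_trans ?_ le_sup_left, le_sup_right⟩
      rw [subgroupOf_map_subtype, inf_eq_left.2 hCE]
    obtain ⟨y, hy, hyx⟩ := h1 hx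
    rwa [← Subtype.ext (show ((y : E) : Ω) = x from hyx)]

theorem dual_of (h3083 : B3083.{u}) : Cfsg.Agent.H779.G2.StDual.{u} := by
  intro Ω _ S E p Γ h W A hA hWE hcom
  have hfE := finE h
  have := Fact.mk h.pp
  have := h.fin
  have hpE := pE h
  obtain ⟨M, B, hSE, hMt, hBM, hBp, hcard, hB⟩ := setup h A hA
  let cg : CommGroup (E ⧸ frattini E) :=
    { (inferInstance : Group (E ⧸ frattini E)) with mul_comm := frat_comm h }
  set Φ := (frattini E).map E.subtype with hΦ
  have hsup : W ⊔ Φ = (W.subgroupOf E ⊔ frattini E).map E.subtype := by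
    rw [Subgroup.map_sup, subgroupOf_map_subtype, inf_eq_left.2 hWE]
  have key := card_le_card h3083 (frat_pow h) ((act Γ).range.subtype) (act Γ).range.subtype_injective hSE hMt hBM hBp
    ((W.subgroupOf E).map (QuotientGroup.mk' (frattini E))) (by
      intro b hb v
      obtain ⟨a, ha, hab⟩ := hB b hb
      obtain ⟨c, rfl⟩ := QuotientGroup.mk_surjective v
      have haN : (a : Ω) ∈ normalizer (E : Set Ω) := (hA ha).2
      have h1 := hab c ⟨a * c * a⁻¹, (mem_normalizer_iff.1 haN _).1 c.2⟩ rfl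
      have h2 := hcom a ha c c.2
      rw [hsup] at h2
      obtain ⟨y, hy, hyx⟩ := h2
      have h3 : (((act Γ).range.subtype b : MulAut (E ⧸ frattini E)) (QuotientGroup.mk c)) * (QuotientGroup.mk c)⁻¹ =
          (QuotientGroup.mk y : E ⧸ frattini E) := by
        refine (congrArg (· * (QuotientGroup.mk c : E ⧸ frattini E)⁻¹) h1).trans ?_
        show (QuotientGroup.mk (_ * c⁻¹) : E ⧸ frattini E) = _
        congr 1
        apply Subtype.ext
        exact hyx.symm
      refine h3 ▸ ?_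
      have h4 : (QuotientGroup.mk' (frattini E)) y ∈ (W.subgroupOf E ⊔ frattini E).map (QuotientGroup.mk' (frattini E)) :=
        ⟨y, hy, rfl⟩
      rwa [Subgroup.map_sup, QuotientGroup.map_mk'_self, sup_bot_eq] at h4)
  rw [hcard] at key
  refine key.trans (le_of_eq ?_)
  have e1 : (W.subgroupOf E).map (QuotientGroup.mk' (frattini E)) =
      (W.subgroupOf E ⊔ frattini E).map (QuotientGroup.mk' (frattini E)) := by
    rw [Subgroup.map_sup, QuotientGroup.map_mk'_self, sup_bot_eq]
  rw [hsup, hΦ, relIndex_map_map_of_injective _ _ E.subtype_injective, e1, ← relIndex_bot_left,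
    ← QuotientGroup.map_mk'_self (frattini E), relIndex_map_map, sup_eq_left.2 (by rw [QuotientGroup.ker_mk']),
    QuotientGroup.ker_mk', sup_assoc, sup_idem]

end Cfsg.Agent.H302.GT
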