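import Cfsg.Agent.H775.PU.Bound
import Cfsg.Agent.EvenType.StrongP

/-!
# S5211 (hub helper779), task 5442 (helper302): the bounds `|A| ≤ |V : C_V(A)|` and `|A| ≤ |[V, A]|`, abstract part

`K` acts faithfully on the elementary abelian `p`-group `V`, `M < K` is "TI for `p`-elements", `A ≤ M` is a `p`-group.
Apply S3083 to `Y = ⟨A, Aᵍ⟩`, `g ∉ M`, acting on `V / C_V(Y)`, resp. on `[V, Y]`.
-/

set_option autoImplicit false

namespace Cfsg.Agent.H302.GT

open Subgroup Cfsg

universe u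

section

variable {K : Type u} [Group K]

/-- `M` is TI for `p`-elements -/
def SE (p : ℕ) (M : Subgroup K) : Prop :=
  ∀ g, g ∉ M → ∀ x ∈ M, g * x * g⁻¹ ∈ M → (∃ k : ℕ, x ^ p ^ k = 1) → x = 1

/-- a Sylow subgroup containing a nontrivial subgroup of `M` is in `M` -/
theorem sylow_le_of_SE [Finite K] {p : ℕ} [Fact p.Prime] {M A : Subgroup K} (hM : SE p M) (hA : A ≤ M) (hA1 : A ≠ ⊥)
    (P : Subgroup K) (hPp : IsPGroup p P) (hAP : A ≤ P) : P ≤ M := by
  by_contra hne
  have hnil : Group.IsNilpotent P := hPp.isNilpotent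
  have hlt : M.subgroupOf P < ⊤ := by
    rw [lt_top_iff_ne_top]
    intro h'
    rw [subgroupOf_eq_top] at h'
    exact hne h'
  have hnc := Group.normalizerCondition_of_isNilpotent (G := P) _ hlt
  obtain ⟨g, hg, hgM⟩ := SetLike.exists_of_lt hnc
  obtain ⟨a, ha, ha1⟩ := (bot_or_exists_ne_one A).resolve_left hA1
  have h1 : (⟨a, hAP ha⟩ : P) ∈ M.subgroupOf P := hA ha
  have h2 := (mem_normalizer_iff.1 hg _).1 h1
  apply ha1
  obtain ⟨k, hk⟩ := hPp ⟨a, hAP ha⟩
  exact hM g (fun h => hgM h) a (hA ha) h2 ⟨k, congrArg Subtype.val hk⟩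

/-- TI for `p`-elements and containing a nontrivial `p`-subgroup implies strongly `p`-embedded -/
theorem emb_of_SE [Finite K] {p : ℕ} [Fact p.Prime] {M A : Subgroup K} (hM : SE p M) (hMt : M ≠ ⊤) (hA : A ≤ M)
    (hAp : IsPGroup p A) (hA1 : A ≠ ⊥) :
    ∃ P : Sylow p K, A ≤ P ∧ (P : Subgroup K) ≤ M ∧ IsStronglyPEmbedded p M := by
  obtain ⟨P, hP⟩ := hAp.exists_le_sylow
  have hPM := sylow_le_of_SE hM hA hA1 P P.isPGroup' hP
  refine ⟨P, hP, hPM, ?_, hMt, P, ?_⟩
  · obtain ⟨n, hn⟩ := IsPGroup.iff_card.1 hAp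
    have hn0 : n ≠ 0 := by
      rintro rfl
      rw [pow_zero] at hn
      exact hA1 (Subgroup.eq_bot_of_card_eq _ hn)
    have h1 : p ∣ Nat.card A := by rw [hn]; exact dvd_pow_self p hn0
    exact h1.trans (card_subgroup_dvd_card A)
  · refine EvenType.StrongP.core_le P.isPGroup' ?_
    intro Q hQ hQ1 g hg
    by_contra hgM
    obtain ⟨x, hx, hx1⟩ := (bot_or_exists_ne_one Q).resolve_left hQ1
    apply hx1
    obtain ⟨k, hk⟩ := P.isPGroup' ⟨x, hQ hx⟩
    exact hM g hgM x (hPM (hQ hx)) (hPM (hQ ((mem_normalizer_iff.1 hg x).1 hx))) ⟨k, congrArg Subtype.val hk⟩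

/-- there is no nontrivial normal `p`-subgroup -/
theorem normal_eq_bot [Finite K] {p : ℕ} [Fact p.Prime] {M A : Subgroup K} (hM : SE p M) (hMt : M ≠ ⊤) (hA : A ≤ M)
    (hAp : IsPGroup p A) (hA1 : A ≠ ⊥) (N : Subgroup K) [hN : N.Normal] (hNp : IsPGroup p N) : N = ⊥ := by
  have hNM : N ≤ M := by
    refine le_trans le_sup_right (sylow_le_of_SE hM hA hA1 (A ⊔ N) ?_ le_sup_left)
    exact IsPGroup.to_sup_of_normal_right hAp hNp
  by_contra hne
  obtain ⟨x, hx, hx1⟩ := (bot_or_exists_ne_one N).resolve_left hne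
  obtain ⟨g, -, hg⟩ : ∃ g ∈ (⊤ : Subgroup K), g ∉ M := SetLike.exists_of_lt (lt_top_iff_ne_top.2 hMt)
  obtain ⟨k, hk⟩ := hNp ⟨x, hx⟩
  exact hx1 (hM g hg x (hNM hx) (hNM (hN.conj_mem x hx g)) ⟨k, congrArg Subtype.val hk⟩)

/-- the pair `⟨A, Aᵍ⟩` -/
theorem SE_pair {p : ℕ} {M : Subgroup K} (hM : SE p M) (Y : Subgroup K) : SE p (M.subgroupOf Y) := by
  intro g hg x hx hgx hk
  obtain ⟨k, hk⟩ := hk
  apply Subtype.ext
  exact hM g (fun h => hg h) x hx hgx ⟨k, congrArg Subtype.val hk⟩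

end

section chain

variable {K : Type*} [Group K] {V : Type*} [CommGroup V]

/-- a group trivial on `D` and on `V/D` is a `p`-group -/
theorem isPGroup_chain {p : ℕ} (he : ∀ x : V, x ^ p = 1) (φ : K →* MulAut V) (hφ : Function.Injective φ)
    (D : Subgroup V) (N : Subgroup K) (h1 : ∀ n ∈ N, ∀ d ∈ D, φ n d = d) (h2 : ∀ n ∈ N, ∀ v, φ n v * v⁻¹ ∈ D) :
    IsPGroup p N := by
  rintro ⟨r, hr⟩
  refine ⟨1, ?_⟩
  rw [pow_one]
  apply Subtype.ext
  apply hφ
  show φ (r ^ p) = φ 1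
  have hpow : ∀ (n : ℕ) (v : V), (φ r ^ n) v = (φ r v * v⁻¹) ^ n * v := by
    intro n
    induction n with
    | zero => intro v; rw [pow_zero, pow_zero, one_mul]; rfl
    | succ n ih =>
      intro v
      rw [pow_succ', MulAut.mul_apply, ih v, map_mul, map_pow, h1 r hr _ (h2 r hr v), pow_succ, mul_assoc, mul_assoc]
      congr 1
      rw [inv_mul_cancel, mul_one]
  rw [map_pow, map_one]
  apply MulEquiv.ext
  intro v
  rw [hpow, he, one_mul]
  rfl

/-- the subgroup of the elements fixing `D` pointwise -/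
def fixer (φ : K →* MulAut V) (D : Subgroup V) : Subgroup K where
  carrier := {k | ∀ d ∈ D, φ k d = d}
  one_mem' := fun d _ => by rw [map_one]; rfl
  mul_mem' := by
    intro a b ha hb d hd
    rw [map_mul, MulAut.mul_apply, hb d hd, ha d hd]
  inv_mem' := by
    intro a ha d hd
    have h1 := ha d hd
    calc φ a⁻¹ d = φ a⁻¹ (φ a d) := by rw [h1]
      _ = (φ a⁻¹ * φ a) d := rfl
      _ = d := by rw [← map_mul, inv_mul_cancel, map_one]; rfl

/-- the subgroup of the elements trivial on `V/D` -/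
def cofixer (φ : K →* MulAut V) (D : Subgroup V) : Subgroup K where
  carrier := {k | ∀ v, φ k v * v⁻¹ ∈ D}
  one_mem' := fun v => by
    rw [map_one]
    show v * v⁻¹ ∈ D
    rw [mul_inv_cancel]
    exact D.one_mem
  mul_mem' := by
    intro a b ha hb v
    rw [map_mul, MulAut.mul_apply]
    have h := D.mul_mem (ha (φ b v)) (hb v)
    have e : φ a (φ b v) * (φ b v)⁻¹ * (φ b v * v⁻¹) = φ a (φ b v) * v⁻¹ := by group
    rwa [e] at h
  inv_mem' := by
    intro a ha v
    have h1 : φ a (φ a⁻¹ v) = v := by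
      rw [← MulAut.mul_apply, ← map_mul, mul_inv_cancel, map_one]
      rfl
    have h2 := D.inv_mem (ha (φ a⁻¹ v))
    rw [h1, mul_inv_rev, inv_inv] at h2
    exact h2

end chain

section main

variable {K : Type u} [Group K] [Finite K] {V : Type u} [CommGroup V] [Finite V]

/-- the fixed points of `A` -/
def fixed {K V : Type*} [Group K] [CommGroup V] (φ : K →* MulAut V) (A : Subgroup K) : Subgroup V where
  carrier := {v | ∀ a ∈ A, φ a v = v}
  one_mem' := fun a _ => map_one _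
  mul_mem' := by
    intro x y hx hy a ha
    rw [map_mul, hx a ha, hy a ha]
  inv_mem' := by
    intro x hx a ha
    rw [map_inv, hx a ha]

/-- **(i)** `|A| ≤ |V : C_V(A)|` -/
theorem card_le_index (h3083 : H775.PU.B3083.{u}) {p : ℕ} [Fact p.Prime] (he : ∀ x : V, x ^ p = 1)
    (φ : K →* MulAut V) (hφ : Function.Injective φ) {M A : Subgroup K} (hM : SE p M) (hMt : M ≠ ⊤) (hA : A ≤ M)
    (hAp : IsPGroup p A) (C : Subgroup V) (hC : ∀ a ∈ A, ∀ c ∈ C, φ a c = c) : Nat.card A ≤ C.index := by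
  by_cases hA1 : A = ⊥
  · rw [hA1, Subgroup.card_bot]
    exact Nat.one_le_iff_ne_zero.2 (FiniteIndex.index_ne_zero)
  obtain ⟨g, -, hg⟩ : ∃ g ∈ (⊤ : Subgroup K), g ∉ M := SetLike.exists_of_lt (lt_top_iff_ne_top.2 hMt)
  set B := A.map (MulAut.conj g).toMonoidHom with hB
  set Y := A ⊔ B with hY
  have hAY : A ≤ Y := le_sup_left
  have hBY : B ≤ Y := le_sup_right
  have hSE : SE p (M.subgroupOf Y) := SE_pair hM Y
  have hYt : M.subgroupOf Y ≠ ⊤ := by
    intro h
    rw [subgroupOf_eq_top] at h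
    obtain ⟨a, ha, ha1⟩ := (bot_or_exists_ne_one A).resolve_left hA1
    obtain ⟨k, hk⟩ := hAp ⟨a, ha⟩
    exact ha1 (hM g hg a (hA ha) (h (hBY ⟨a, ha, rfl⟩)) ⟨k, congrArg Subtype.val hk⟩)
  have hA' : A.subgroupOf Y ≤ M.subgroupOf Y := fun x hx => hA hx
  have hAp' : IsPGroup p (A.subgroupOf Y) := hAp.comap_subtype
  have hA1' : A.subgroupOf Y ≠ ⊥ := by
    intro h
    rw [subgroupOf_eq_bot] at h
    apply hA1
    rw [← inf_eq_left.2 hAY]
    exact h.eq_bot
  obtain ⟨P, hAP, hPM, hemb⟩ := emb_of_SE hSE hYt hA' hAp' hA1'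
  -- the fixed points of `Y`
  set C1 := fixed φ A with hC1
  set C2 := fixed φ B with hC2
  have hC12 : C2 = C1.map (φ g).toMonoidHom := by
    ext v
    constructor
    · intro hv
      refine ⟨φ g⁻¹ v, ?_, ?_⟩
      · intro a ha
        have h1 := hv (g * a * g⁻¹) ⟨a, ha, rfl⟩
        rw [map_mul, map_mul, MulAut.mul_apply, MulAut.mul_apply] at h1
        have h2 := congrArg (φ g⁻¹) h1
        rwa [← MulAut.mul_apply, ← map_mul, inv_mul_cancel, map_one, MulAut.one_apply] at h2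
      · show φ g (φ g⁻¹ v) = v
        rw [← MulAut.mul_apply, ← map_mul, mul_inv_cancel, map_one, MulAut.one_apply]
    · rintro ⟨w, hw, rfl⟩ _ ⟨a, ha, rfl⟩
      show φ (g * a * g⁻¹) (φ g w) = φ g w
      rw [← MulAut.mul_apply, ← map_mul]
      have e : g * a * g⁻¹ * g = g * a := by group
      rw [e, map_mul, MulAut.mul_apply, hw a ha]
  have hidx2 : C2.index = C1.index := by
    rw [hC12]
    exact index_map_equiv C1 (φ g)
  have hidx1 : C1.index ≤ C.index := by
    have h1 : C ≤ C1 := fun c hc a ha => hC a ha c hc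
    exact Nat.le_of_dvd (Nat.pos_of_ne_zero FiniteIndex.index_ne_zero) (index_dvd_of_le h1)
  set F := C1 ⊓ C2 with hF
  have hYF : Y ≤ fixer φ F := by
    rw [hY, sup_le_iff]
    exact ⟨fun a ha d hd => hd.1 a ha, fun b hb d hd => hd.2 b hb⟩
  have hidxF : F.index ≤ C.index ^ 2 := by
    calc F.index ≤ C1.index * C2.index := index_inf_le
      _ ≤ C.index * C.index := by
        rw [hidx2]
        exact Nat.mul_le_mul hidx1 hidx1
      _ = C.index ^ 2 := (sq _).symm
  -- the action of `Y` on `V / F`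
  have hmapF : ∀ y : Y, F.map (φ y).toMonoidHom = F := by
    intro y
    ext v
    constructor
    · rintro ⟨w, hw, rfl⟩
      show φ y w ∈ F
      rw [hYF y.2 w hw]
      exact hw
    · intro hv
      exact ⟨v, hv, hYF y.2 v hv⟩
  let ψ : Y →* MulAut (V ⧸ F) :=
    { toFun := fun y => QuotientGroup.congr F F (φ y) (hmapF y)
      map_one' := by
        ext x
        obtain ⟨x, rfl⟩ := QuotientGroup.mk_surjective x
        show (QuotientGroup.mk (φ ((1 : Y) : K) x) : V ⧸ F) = QuotientGroup.mk x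
        rw [OneMemClass.coe_one, map_one]
        rfl
      map_mul' := by
        intro a b
        ext x
        obtain ⟨x, rfl⟩ := QuotientGroup.mk_surjective x
        show (QuotientGroup.mk (φ ((a * b : Y) : K) x) : V ⧸ F) = QuotientGroup.mk (φ a (φ b x))
        rw [Subgroup.coe_mul, map_mul]
        rfl }
  have hψ : Function.Injective ψ := by
    rw [← MonoidHom.ker_eq_bot_iff]
    refine normal_eq_bot hSE hYt hA' hAp' hA1' ψ.ker ?_
    refine isPGroup_chain he (φ.comp Y.subtype) (hφ.comp Y.subtype_injective) F _ ?_ ?_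
    · intro n _ d hd
      exact hYF n.2 d hd
    · intro n hn v
      have h1 : (QuotientGroup.mk (φ n v) : V ⧸ F) = QuotientGroup.mk v :=
        congrArg (fun t : MulAut (V ⧸ F) => t (QuotientGroup.mk v)) (MonoidHom.mem_ker.1 hn)
      show φ n v * v⁻¹ ∈ F
      rw [QuotientGroup.eq] at h1
      have h2 := F.inv_mem h1
      rw [mul_inv_rev, inv_inv, mul_comm] at h2
      exact h2
  have hfin := H775.PU.sq_le_of_act h3083 (Q := V ⧸ F) (p := p) (by
    intro x
    obtain ⟨x, rfl⟩ := QuotientGroup.mk_surjective x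
    rw [← QuotientGroup.mk_pow, he]
    rfl) ψ hψ _ hemb P
  have h1 : Nat.card A ≤ Nat.card P := by
    have h2 : Nat.card A = Nat.card (A.subgroupOf Y) :=
      (Nat.card_congr (subgroupOfEquivOfLe hAY).toEquiv).symm
    rw [h2]
    exact Nat.card_le_card_of_injective (inclusion hAP) (inclusion_injective hAP)
  have h3 : Nat.card A ^ 2 ≤ C.index ^ 2 := by
    calc Nat.card A ^ 2 ≤ Nat.card P ^ 2 := Nat.pow_le_pow_left h1 2
      _ ≤ Nat.card (V ⧸ F) := hfin
      _ ≤ C.index ^ 2 := hidxF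
  exact (Nat.pow_le_pow_iff_left (by norm_num)).1 h3

/-- **(ii)** `|A| ≤ |[V, A]|` -/
theorem card_le_card (h3083 : H775.PU.B3083.{u}) {p : ℕ} [Fact p.Prime] (he : ∀ x : V, x ^ p = 1)
    (φ : K →* MulAut V) (hφ : Function.Injective φ) {M A : Subgroup K} (hM : SE p M) (hMt : M ≠ ⊤) (hA : A ≤ M)
    (hAp : IsPGroup p A) (W : Subgroup V) (hW : ∀ a ∈ A, ∀ v, φ a v * v⁻¹ ∈ W) : Nat.card A ≤ Nat.card W := by
  by_cases hA1 : A = ⊥
  · rw [hA1, Subgroup.card_bot]
    exact Nat.card_pos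
  obtain ⟨g, -, hg⟩ : ∃ g ∈ (⊤ : Subgroup K), g ∉ M := SetLike.exists_of_lt (lt_top_iff_ne_top.2 hMt)
  set B := A.map (MulAut.conj g).toMonoidHom with hB
  set Y := A ⊔ B with hY
  have hAY : A ≤ Y := le_sup_left
  have hBY : B ≤ Y := le_sup_right
  have hSE : SE p (M.subgroupOf Y) := SE_pair hM Y
  have hYt : M.subgroupOf Y ≠ ⊤ := by
    intro h
    rw [subgroupOf_eq_top] at h
    obtain ⟨a, ha, ha1⟩ := (bot_or_exists_ne_one A).resolve_left hA1
    obtain ⟨k, hk⟩ := hAp ⟨a, ha⟩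
    exact ha1 (hM g hg a (hA ha) (h (hBY ⟨a, ha, rfl⟩)) ⟨k, congrArg Subtype.val hk⟩)
  have hA' : A.subgroupOf Y ≤ M.subgroupOf Y := fun x hx => hA hx
  have hAp' : IsPGroup p (A.subgroupOf Y) := hAp.comap_subtype
  have hA1' : A.subgroupOf Y ≠ ⊥ := by
    intro h
    rw [subgroupOf_eq_bot] at h
    apply hA1
    rw [← inf_eq_left.2 hAY]
    exact h.eq_bot
  obtain ⟨P, hAP, hPM, hemb⟩ := emb_of_SE hSE hYt hA' hAp' hA1'
  set W2 := W.map (φ g).toMonoidHom with hW2
  set D := W ⊔ W2 with hD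
  have hYD : Y ≤ cofixer φ D := by
    rw [hY, sup_le_iff]
    refine ⟨fun a ha v => (le_sup_left : W ≤ D) (hW a ha v), ?_⟩
    rintro _ ⟨a, ha, rfl⟩ v
    refine (le_sup_right : W2 ≤ D) ⟨φ a (φ g⁻¹ v) * (φ g⁻¹ v)⁻¹, hW a ha _, ?_⟩
    show φ g (φ a (φ g⁻¹ v) * (φ g⁻¹ v)⁻¹) = φ (g * a * g⁻¹) v * v⁻¹
    have e1 : φ g (φ g⁻¹ v) = v := by
      rw [← MulAut.mul_apply, ← map_mul, mul_inv_cancel, map_one, MulAut.one_apply]
    rw [map_mul (φ g), map_inv (φ g), e1, map_mul φ, map_mul φ, MulAut.mul_apply, MulAut.mul_apply]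
  have hcard2 : Nat.card W2 = Nat.card W := card_map_of_injective (φ g).injective
  have hcardD : Nat.card D ≤ Nat.card W ^ 2 := by
    let f : W × W2 →* V := (W.subtype.comp (MonoidHom.fst W W2)) * (W2.subtype.comp (MonoidHom.snd W W2))
    have hfD : D ≤ f.range := by
      rw [hD, sup_le_iff]
      constructor
      · intro w hw
        exact ⟨(⟨w, hw⟩, 1), by show w * 1 = w; rw [mul_one]⟩
      · intro w hw
        exact ⟨(1, ⟨w, hw⟩), by show 1 * w = w; rw [one_mul]⟩
    calc Nat.card D ≤ Nat.card f.range := Nat.card_le_card_of_injective (inclusion hfD) (inclusion_injective hfD)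
      _ ≤ Nat.card (W × W2) := Nat.card_le_card_of_surjective f.rangeRestrict f.rangeRestrict_surjective
      _ = Nat.card W ^ 2 := by rw [Nat.card_prod, hcard2, sq]
  have hinv : ∀ y : Y, ∀ d ∈ D, φ y d ∈ D := by
    intro y d hd
    have h1 := D.mul_mem (hYD y.2 d) hd
    rwa [inv_mul_cancel_right] at h1
  have hmapD : ∀ y : Y, ∀ d : D, ((φ y).toMonoidHom d : V) ∈ D := fun y d => hinv y d d.2
  let ψ : Y →* MulAut D :=
    { toFun := fun y =>
        { toFun := fun d => ⟨φ y d, hinv y d d.2⟩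
          invFun := fun d => ⟨φ (y⁻¹ : Y) d, hinv y⁻¹ d d.2⟩
          left_inv := by
            intro d
            apply Subtype.ext
            show φ ((y⁻¹ : Y) : K) (φ y d) = d
            rw [← MulAut.mul_apply, ← map_mul, Subgroup.coe_inv, inv_mul_cancel, map_one, MulAut.one_apply]
          right_inv := by
            intro d
            apply Subtype.ext
            show φ y (φ ((y⁻¹ : Y) : K) d) = d
            rw [← MulAut.mul_apply, ← map_mul, Subgroup.coe_inv, mul_inv_cancel, map_one, MulAut.one_apply]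
          map_mul' := by
            intro a b
            apply Subtype.ext
            exact map_mul (φ y) (a : V) (b : V) }
      map_one' := by
        ext d
        show φ ((1 : Y) : K) d = d
        rw [OneMemClass.coe_one, map_one, MulAut.one_apply]
      map_mul' := by
        intro a b
        ext d
        show φ ((a * b : Y) : K) d = φ a (φ b d)
        rw [Subgroup.coe_mul, map_mul, MulAut.mul_apply] }
  have hψ : Function.Injective ψ := by
    rw [← MonoidHom.ker_eq_bot_iff]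
    refine normal_eq_bot hSE hYt hA' hAp' hA1' ψ.ker ?_
    refine isPGroup_chain he (φ.comp Y.subtype) (hφ.comp Y.subtype_injective) D _ ?_ ?_
    · intro n hn d hd
      exact congrArg (fun t : MulAut D => ((t ⟨d, hd⟩ : D) : V)) (MonoidHom.mem_ker.1 hn)
    · intro n _ v
      exact hYD n.2 v
  have hfin := H775.PU.sq_le_of_act h3083 (Q := D) (p := p) (by
    intro x
    apply Subtype.ext
    exact he x) ψ hψ _ hemb P
  have h1 : Nat.card A ≤ Nat.card P := by
    have h2 : Nat.card A = Nat.card (A.subgroupOf Y) :=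
      (Nat.card_congr (subgroupOfEquivOfLe hAY).toEquiv).symm
    rw [h2]
    exact Nat.card_le_card_of_injective (inclusion hAP) (inclusion_injective hAP)
  have h3 : Nat.card A ^ 2 ≤ Nat.card W ^ 2 := by
    calc Nat.card A ^ 2 ≤ Nat.card P ^ 2 := Nat.pow_le_pow_left h1 2
      _ ≤ Nat.card D := hfin
      _ ≤ Nat.card W ^ 2 := hcardD
  exact (Nat.pow_le_pow_iff_left (by norm_num)).1 h3

end main

end Cfsg.Agent.H302.GT
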